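import Groth.Agent.H1PdLib.Valuation
import Groth.Agent.LC.PdRegular
import Mathlib

/-!
# The Picard group of the generic fibre of a flat local algebra with regular closed fibre
-/

universe u

set_option linter.style.haveILetI false

namespace Groth.Agent.H1PicVal

open Groth.Agent

variable {V : Type u} [CommRing V] [IsDomain V] [ValuationRing V]
  {L : Type u} [CommRing L] [IsLocalRing L] [Algebra V L] [Module.Flat V L] [Algebra.EssFiniteType V L]

variable (V) in
include V in
/-- A projective localisation of a finite flat module of finite projective dimension is stably free. -/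
theorem isStablyFree_localized (S : Submonoid L) :
    ∀ (n : ℕ) (M : Type u) [AddCommGroup M] [Module L M] [Module V M] [IsScalarTower V L M] [Module.Finite L M]
      [Module.Flat V M],
      RegLoc6.PdLE L n M → Module.Projective (Localization S) (LocalizedModule S M) →
      Module.IsStablyFree (Localization S) (LocalizedModule S M) := by
  intro n
  induction n with
  | zero =>
    intro M _ _ _ _ _ _ h _
    have : Module.Projective L M := RegLoc6.pdLE_zero_iff.1 h
    have : Module.FinitePresentation L M := FlatMisc.ValuationLocalFP.finitePresentation (A := V)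
    have : Module.Free L M := Module.free_of_flat_of_isLocalRing
    have : Module.Free (Localization S) (LocalizedModule S M) :=
      Module.free_of_isLocalizedModule S (LocalizedModule.mkLinearMap S M)
    infer_instance
  | succ n ih =>
    intro M _ _ _ _ _ _ h hproj
    obtain ⟨m, g, hg⟩ := Module.Finite.exists_fin' L M
    have hK := (RegLoc6.pdLE_succ_iff g hg).1 h
    set K := LinearMap.ker g
    let ι : LocalizedModule S K →ₗ[Localization S] LocalizedModule S (Fin m → L) :=
      LocalizedModule.map S K.subtype
    let ĝ : LocalizedModule S (Fin m → L) →ₗ[Localization S] LocalizedModule S M :=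
      LocalizedModule.map S g
    have hex : Function.Exact ι ĝ :=
      LocalizedModule.map_exact S _ _ (LinearMap.exact_subtype_ker_map g)
    have hι : Function.Injective ι := LocalizedModule.map_injective S _ Subtype.val_injective
    have hĝ : Function.Surjective ĝ := LocalizedModule.map_surjective S _ hg
    obtain ⟨l, hl⟩ := Module.projective_lifting_property ĝ LinearMap.id hĝ
    obtain ⟨e, he⟩ := (Function.Exact.splitSurjectiveEquiv (R := Localization S) (M := LocalizedModule S K)
      (N := LocalizedModule S (Fin m → L)) (P := LocalizedModule S M) (f := ι) (g := ĝ) hex hι) ⟨l, hl⟩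
    have hF : Module.Free (Localization S) (LocalizedModule S (Fin m → L)) :=
      Module.free_of_isLocalizedModule S (LocalizedModule.mkLinearMap S (Fin m → L))
    have hFfin : Module.Finite (Localization S) (LocalizedModule S (Fin m → L)) :=
      Module.Finite.of_isLocalizedModule S (LocalizedModule.mkLinearMap S (Fin m → L))
    have hKproj : Module.Projective (Localization S) (LocalizedModule S K) := by
      have : Module.Projective (Localization S) (LocalizedModule S K × LocalizedModule S M) :=
        Module.Projective.of_equiv e
      exact Module.Projective.of_split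
        (LinearMap.inl (Localization S) (LocalizedModule S K) (LocalizedModule S M))
        (LinearMap.fst (Localization S) (LocalizedModule S K) (LocalizedModule S M)) rfl
    haveI : Module.FinitePresentation L M := FlatMisc.ValuationLocalFP.finitePresentation (A := V)
    haveI : Module.Finite L K := Module.Finite.iff_fg.2 (Module.FinitePresentation.fg_ker g hg)
    haveI : Module.Flat V (Fin m → L) := Module.Flat.trans V L _
    haveI : Module.Flat V K := H1PdLib.flat_submodule V K
    have hsf := ih K hK hKproj
    obtain ⟨N, _, _, _, _, hfree⟩ :=
      @Module.IsStablyFree.exist_free_prod (Localization S) _ (LocalizedModule S K) _ _ hsf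
    have e' : (LocalizedModule S (Fin m → L) × N) ≃ₗ[Localization S]
        (LocalizedModule S M × (LocalizedModule S K × N)) :=
      ((e.trans (LinearEquiv.prodComm _ _ _)).prodCongr (LinearEquiv.refl _ N)).trans
        (LinearEquiv.prodAssoc _ _ _ _)
    have : Module.Finite (Localization S) (LocalizedModule S K) :=
      Module.Finite.of_isLocalizedModule S (LocalizedModule.mkLinearMap S K)
    have : Module.Free (Localization S) (LocalizedModule S M × (LocalizedModule S K × N)) :=
      Module.Free.of_equiv e'
    exact Module.IsStablyFree.of_free_prod (Localization S) (LocalizedModule S M) (LocalizedModule S K × N)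

variable (L) in
/-- If the closed fibre is regular, the localisation at non-zero elements of the valuation ring has
trivial Picard group. -/
theorem subsingleton_pic (I : Ideal V) [IsRegularLocalRing (L ⧸ I.map (algebraMap V L))] :
    Subsingleton (CommRing.Pic (Localization (Algebra.algebraMapSubmonoid L (nonZeroDivisors V)))) := by
  classical
  let S := Algebra.algebraMapSubmonoid L (nonZeroDivisors V)
  let B := Localization S
  obtain ⟨n, hn⟩ : ∃ n : ℕ, ringKrullDim (L ⧸ I.map (algebraMap V L)) = n :=
    ⟨_, ((isRegularLocalRing_iff _).1 inferInstance).symm⟩
  refine CommRing.Pic.subsingleton_iff.2 fun M _ _ hM => ?_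
  haveI := hM
  letI : Module L M := Module.compHom M (algebraMap L B)
  haveI : IsScalarTower L B M := IsScalarTower.of_algebraMap_smul fun _ _ => rfl
  letI : Module V M := Module.compHom M (algebraMap V L)
  haveI : IsScalarTower V L M := IsScalarTower.of_algebraMap_smul fun _ _ => rfl
  haveI : IsScalarTower V B M := IsScalarTower.to₁₃₄ V L B M
  haveI : Module.Flat L B := IsLocalization.flat B S
  haveI : Module.Flat V B := Module.Flat.trans V L B
  haveI : Module.Projective B M := inferInstance
  haveI : Module.Flat V M := Module.Flat.trans V B M
  obtain ⟨g, hg⟩ : (⊤ : Submodule B M).FG := Module.Finite.fg_top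
  let M₀ : Submodule L M := Submodule.span L (g : Set M)
  haveI : Module.Finite L M₀ := Module.Finite.span_of_finite L g.finite_toSet
  haveI : Module.Flat V M₀ := H1PdLib.flat_submodule V M₀
  haveI : Module.FinitePresentation L M₀ := FlatMisc.ValuationLocalFP.finitePresentation (A := V)
  have hsurj : ∀ x : M, ∃ (s : S) (y : M₀), (s : L) • x = y := by
    intro x
    have hx : x ∈ Submodule.span B (g : Set M) := hg ▸ Submodule.mem_top
    induction hx using Submodule.span_induction with
    | mem x hx => exact ⟨1, ⟨x, Submodule.subset_span hx⟩, one_smul L x⟩
    | zero => exact ⟨1, 0, by simp⟩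
    | add x y _ _ hx hy =>
      obtain ⟨s, a, ha⟩ := hx
      obtain ⟨t, b, hb⟩ := hy
      refine ⟨s * t, (t : L) • a + (s : L) • b, ?_⟩
      push_cast
      rw [smul_add, mul_smul, smul_comm (s : L) (t : L) x, ha, mul_smul, hb]
    | smul c x _ hx =>
      obtain ⟨s, a, ha⟩ := hx
      obtain ⟨l, t, rfl⟩ := IsLocalization.exists_mk'_eq S c
      refine ⟨t * s, l • a, ?_⟩
      push_cast
      rw [mul_smul, smul_comm (s : L) (IsLocalization.mk' B l t) x, ha, ← smul_assoc, IsLocalization.smul_mk'_self,
        algebraMap_smul]
  haveI : IsLocalizedModule S M₀.subtype :=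
    { map_units := fun s => by
        rw [Module.End.isUnit_iff]
        obtain ⟨w, hw⟩ := IsLocalization.map_units B s
        refine ⟨fun x y hxy => ?_, fun y => ⟨(↑w⁻¹ : B) • y, ?_⟩⟩
        · have h1 : (algebraMap L B s) • x = (algebraMap L B s) • y := by
            rw [algebraMap_smul, algebraMap_smul]
            exact hxy
          rw [← hw] at h1
          exact smul_left_cancel w h1
        · show (s : L) • ((↑w⁻¹ : B) • y) = y
          rw [← algebraMap_smul B (s : L), ← hw, smul_smul, Units.mul_inv, one_smul]
      surj := fun x => by
        obtain ⟨s, y, hy⟩ := hsurj x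
        exact ⟨⟨y, s⟩, hy⟩
      exists_of_eq := fun {x y} hxy => ⟨1, by rw [show x = y from Subtype.ext hxy]⟩ }
  let e : LocalizedModule S M₀ ≃ₗ[B] M :=
    (IsLocalizedModule.iso S M₀.subtype).extendScalarsOfIsLocalization S B
  haveI : Module.Projective B (LocalizedModule S M₀) := Module.Projective.of_equiv e.symm
  haveI := isStablyFree_localized V S n M₀ (H1PdLib.pdLE_of_flat (I := I) hn M₀) inferInstance
  haveI : Module.IsStablyFree B M := Module.IsStablyFree.equiv e
  exact Module.free_of_isStablyFree_of_invertible B M

end Groth.Agent.H1PicVal
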